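import Groth.Agent.Lib.Helper8.Brown.CG
import Mathlib.CategoryTheory.Adjunction.PartialAdjoint
import Mathlib.CategoryTheory.Preadditive.Yoneda.Limits
import Mathlib.CategoryTheory.Limits.Preserves.Opposites
import Mathlib.CategoryTheory.Triangulated.Opposite.Functor

universe w v u u'

set_option linter.unusedSectionVars false

open CategoryTheory CategoryTheory.Limits CategoryTheory.Pretriangulated Opposite
open CategoryTheory.Pretriangulated.Opposite

namespace Groth.Agent.Lib.Helper8.Brown

section Adj

variable {D : Type u} [Category.{v} D] [Preadditive D] [HasZeroObject D] [HasShift D ℤ]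
  [∀ n : ℤ, (shiftFunctor D n).Additive] [Pretriangulated D]
  {D' : Type u'} [Category.{v} D'] [Preadditive D'] [HasZeroObject D'] [HasShift D' ℤ]
  [∀ n : ℤ, (shiftFunctor D' n).Additive] [Pretriangulated D']
  (F : D ⥤ D') [F.CommShift ℤ] [F.IsTriangulated]
  [∀ (κ : Type v), PreservesColimitsOfShape (Discrete κ) F]

instance preservesProducts_op_yoneda (Y' : D') (κ : Type v) :
    PreservesLimitsOfShape (Discrete κ) (F.op ⋙ preadditiveYoneda.obj Y') := by
  have : PreservesColimitsOfShape (Discrete κ)ᵒᵖ F :=
    preservesColimitsOfShape_of_equiv (Discrete.opposite κ).symm F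
  have : PreservesLimitsOfShape (Discrete κ) F.op := preservesLimitsOfShape_op _ F
  infer_instance

theorem isLeftAdjoint_of_repr
    (hrep : ∀ (H : Dᵒᵖ ⥤ AddCommGrpCat.{v}) [H.IsHomological]
      [∀ κ : Type v, PreservesLimitsOfShape (Discrete κ) H],
      (H ⋙ forget AddCommGrpCat.{v}).IsRepresentable) : F.IsLeftAdjoint := by
  apply Functor.isLeftAdjoint_of_rightAdjointObjIsDefined_eq_top
  ext Y'
  simp only [Pi.top_apply, Prop.top_eq_true, iff_true]
  exact hrep (F.op ⋙ preadditiveYoneda.obj Y')

end Adj

end Groth.Agent.Lib.Helper8.Brown
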