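import Groth.Agent.Lib.Helper8.Brown.ShiftCl
import Groth.Agent.Lib.Helper8.Compact3

universe w v u

set_option linter.unusedSectionVars false

open CategoryTheory CategoryTheory.Limits CategoryTheory.Pretriangulated Opposite
open CategoryTheory.Pretriangulated.Opposite

namespace Groth.Agent.Lib.Helper8.Brown

open Groth.Agent.Lib.Helper8.Compact

section CG

variable {D : Type u} [Category.{v} D] [Preadditive D] [HasZeroObject D] [HasShift D ℤ]
  [∀ n : ℤ, (shiftFunctor D n).Additive] [Pretriangulated D] [HasCoproducts.{v} D]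

variable (D) in
lemma hasCoproducts_nat : HasColimitsOfShape (Discrete ℕ) D :=
  hasColimitsOfShape_of_equivalence (Discrete.equivalence (Equiv.ulift.{v} : ULift.{v} ℕ ≃ ℕ))

variable [HasColimitsOfShape (Discrete ℕ) D]

/-- A family of `FF` objects satisfies condition (2), with constant index. -/
lemma P2_of_FF {κ : Type w} (G : κ → D) (hG : ∀ k, FF (G k)) : P2 G := by
  classical
  intro X k α
  obtain ⟨S, hS⟩ := (hG k).finite_support_unshifted (Equiv.ulift.{v} : ULift.{v} ℕ ≃ ℕ) X α
  have hα := eq_comp_eSw_of_comp_cSw_eq_zero X α S hS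
  refine ⟨fun _ => k, fun n => α ≫ Sigma.π X n,
    ∑ n ∈ S, Sigma.ι (fun _ : ℕ => G k) n, ?_⟩
  rw [Preadditive.sum_comp]
  simp only [Sigma.ι_map]
  conv_lhs => rw [← hα, eSw, Preadditive.comp_sum]
  simp only [Category.assoc]
  refine Finset.sum_congr rfl (fun n _ => ?_)
  congr!

lemma P1_shiftFamily_of_generates {ι : Type w} (E : ι → D) (hg : CohDer.Generates E) :
    P1 (shiftFamily E) := by
  intro X hX
  by_contra hcon
  push Not at hcon
  apply hX
  apply hg
  intro i n g
  have h1 := hcon (i, -n) (g⟦-n⟧' ≫ (shiftFunctorCompIsoId D n (-n) (by simp)).hom.app X)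
  have h2 : g⟦-n⟧' = 0 := by
    rw [← cancel_mono ((shiftFunctorCompIsoId D n (-n) (by simp)).hom.app X), zero_comp]
    exact h1
  apply (shiftFunctor D (-n)).map_injective
  rw [h2, Functor.map_zero]

theorem isRepresentable_of_compactlyGenerated (hD : CohDer.IsCompactlyGenerated D)
    (H : Dᵒᵖ ⥤ AddCommGrpCat.{v}) [H.IsHomological]
    [∀ (ι : Type v), PreservesLimitsOfShape (Discrete ι) H] :
    (H ⋙ forget AddCommGrpCat.{v}).IsRepresentable := by
  obtain ⟨ι, E, hc, hg⟩ := hD
  refine isRepresentable (H := H) (G := shiftFamily E) (P1_shiftFamily_of_generates E hg)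
    (P2_of_FF _ ?_) (shClosed_shiftFamily E)
  rintro ⟨i, m⟩
  exact FF.le_shift m _ (FF_of_isCompactObject (hc i))

end CG

end Groth.Agent.Lib.Helper8.Brown
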