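import Groth.Agent.Lib.Helper8.Brown.Tower

universe w v u

set_option linter.unusedSectionVars false

open CategoryTheory CategoryTheory.Limits CategoryTheory.Pretriangulated Opposite
open CategoryTheory.Pretriangulated.Opposite

namespace Groth.Agent.Lib.Helper8.Brown

section GV

variable {D : Type u} [Category.{v} D] [Preadditive D] [HasZeroObject D] [HasShift D ℤ]
  [∀ n : ℤ, (shiftFunctor D n).Additive] [Pretriangulated D]
  [HasColimitsOfShape (Discrete ℕ) D]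
  {κ : Type w} (G : κ → D)

/-- Condition (2): maps from the `G k` to countable coproducts factor through coproducts of `G`s. -/
def P2 : Prop :=
  ∀ (X : ℕ → D) (k : κ) (α : G k ⟶ ∐ X), ∃ (j : ℕ → κ) (β : ∀ n, G (j n) ⟶ X n)
    (γ : G k ⟶ ∐ (fun n => G (j n))), α = γ ≫ Limits.Sigma.map β

lemma sigmaMap_zero {Y W : ℕ → D} : Limits.Sigma.map (fun n => (0 : Y n ⟶ W n)) = 0 := by
  apply Sigma.hom_ext
  intro n
  simp

variable {G}

lemma gv (hP2 : P2 G) {Y Z W : ℕ → D} (u : ∀ n, Y n ⟶ Z n) (v : ∀ n, Y n ⟶ W n)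
    (huv : ∀ n k (ξ : G k ⟶ Y n), ξ ≫ u n = 0 → ξ ≫ v n = 0) {k : κ} (ρ : G k ⟶ ∐ Y)
    (hρ : ρ ≫ Limits.Sigma.map u = 0) : ρ ≫ Limits.Sigma.map v = 0 := by
  choose Fib φ hh hT using fun n => distinguished_cocone_triangle₁ (u n)
  obtain ⟨Q, g, h, hTQ⟩ := distinguished_cocone_triangle (Limits.Sigma.map φ)
  have hψ : ∀ n, ∃ c : Z n ⟶ Q, u n ≫ c = Sigma.ι Y n ≫ g := by
    intro n
    obtain ⟨c, hc, -⟩ := complete_distinguished_triangle_morphism _ _ (hT n) hTQ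
      (Sigma.ι Fib n) (Sigma.ι Y n) (by
        change φ n ≫ Sigma.ι Y n = Sigma.ι Fib n ≫ Limits.Sigma.map φ
        rw [Sigma.ι_map])
    exact ⟨c, hc⟩
  choose ψ hψ using hψ
  have hg : Limits.Sigma.map u ≫ Sigma.desc ψ = g := by
    apply Sigma.hom_ext
    intro n
    simp [hψ]
  have hρg : ρ ≫ g = 0 := by rw [← hg, ← Category.assoc, hρ, zero_comp]
  obtain ⟨ρ'', hρ''⟩ : ∃ ρ'' : G k ⟶ ∐ Fib, ρ = ρ'' ≫ Limits.Sigma.map φ :=
    Triangle.coyoneda_exact₂ _ hTQ ρ hρg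
  obtain ⟨j, β, γ, hγ⟩ := hP2 Fib k ρ''
  have h0 : ∀ n, β n ≫ φ n ≫ v n = 0 := by
    intro n
    rw [← Category.assoc]
    apply huv
    rw [Category.assoc]
    have : φ n ≫ u n = 0 := comp_distTriang_mor_zero₁₂ _ (hT n)
    rw [this, comp_zero]
  rw [hρ'', hγ, Category.assoc, Category.assoc, Sigma.map_comp_map, Sigma.map_comp_map]
  simp only [h0]
  rw [sigmaMap_zero, comp_zero]

end GV

section ConstCoprod

variable {D : Type u} [Category.{v} D] [Preadditive D] [HasColimitsOfShape (Discrete ℕ) D] (A : D)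

/-- The shift on the constant countable coproduct. -/
noncomputable def cshift : (∐ fun _ : ℕ => A) ⟶ ∐ fun _ : ℕ => A :=
  Sigma.desc (fun n => Sigma.ι (fun _ : ℕ => A) (n + 1))

/-- A retraction of `𝟙 - cshift`. -/
noncomputable def cretr : (∐ fun _ : ℕ => A) ⟶ ∐ fun _ : ℕ => A :=
  Sigma.desc (fun m => - ∑ n ∈ Finset.range m, Sigma.ι (fun _ : ℕ => A) n)

lemma one_sub_cshift_comp_cretr : (𝟙 _ - cshift A) ≫ cretr A = 𝟙 _ := by
  apply Sigma.hom_ext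
  intro m
  rw [Preadditive.sub_comp, Preadditive.comp_sub, Category.id_comp, Category.comp_id]
  simp only [cshift, cretr, Sigma.ι_desc_assoc, Sigma.ι_desc]
  rw [Finset.sum_range_succ]
  abel

end ConstCoprod

section StepA

variable {D : Type u} [Category.{v} D] [Preadditive D] [HasZeroObject D] [HasShift D ℤ]
  [∀ n : ℤ, (shiftFunctor D n).Additive] [Pretriangulated D] [HasCoproducts.{v} D]
  [HasColimitsOfShape (Discrete ℕ) D]
  {H : Dᵒᵖ ⥤ AddCommGrpCat.{v}} [H.IsHomological]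
  [PreservesLimitsOfShape (Discrete ℕ) H]
  {κ : Type v} {G : κ → D} (T : GoodTower H G)

/-- `ν : ∐ X (n+1) ⟶ ∐ X`. -/
noncomputable def GoodTower.ν : (∐ fun n => T.X (n + 1)) ⟶ ∐ T.X :=
  Sigma.desc (fun n => Sigma.ι T.X (n + 1))

/-- A retraction of `ν`. -/
noncomputable def GoodTower.νr : (∐ T.X) ⟶ ∐ fun n => T.X (n + 1) :=
  Sigma.desc (fun n => match n with
    | 0 => 0
    | n + 1 => Sigma.ι (fun n => T.X (n + 1)) n)

lemma GoodTower.ν_νr : T.ν ≫ T.νr = 𝟙 _ := by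
  apply Sigma.hom_ext
  intro n
  simp [GoodTower.ν, GoodTower.νr]

/-- `τ : ∐ X 0 ⟶ ∐ X`. -/
noncomputable def GoodTower.τ : (∐ fun _ : ℕ => T.X 0) ⟶ ∐ T.X :=
  Sigma.desc (fun n => T.tr (n + 1) ≫ Sigma.ι T.X (n + 1))

/-- `τ1 : ∐ X 1 ⟶ ∐ X`. -/
noncomputable def GoodTower.τ1 : (∐ fun _ : ℕ => T.X 1) ⟶ ∐ T.X :=
  Sigma.desc (fun n => T.tr1 n ≫ Sigma.ι T.X (n + 1))

lemma GoodTower.τ_eq : T.τ = Limits.Sigma.map (fun _ : ℕ => T.s 0) ≫ T.τ1 := by
  apply Sigma.hom_ext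
  intro n
  simp only [GoodTower.τ, GoodTower.τ1, Sigma.ι_desc, Sigma.ι_map_assoc]
  rw [← Category.assoc, T.s0_tr1]

lemma GoodTower.τ_eq' : T.τ = Limits.Sigma.map (fun n : ℕ => T.tr (n + 1)) ≫ T.ν := by
  apply Sigma.hom_ext
  intro n
  simp [GoodTower.τ, GoodTower.ν]

lemma GoodTower.τ_comm :
    T.τ ≫ (𝟙 _ - DerLim.shiftMap T.X T.s) = (𝟙 _ - cshift (T.X 0)) ≫ T.τ := by
  apply Sigma.hom_ext
  intro n
  simp only [GoodTower.τ, DerLim.shiftMap, cshift, Preadditive.comp_sub, Preadditive.sub_comp,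
    Category.comp_id, Category.id_comp, Sigma.ι_desc, Sigma.ι_desc_assoc, Category.assoc]
  rw [← Category.assoc (T.tr (n + 1)), ← GoodTower.tr_succ]

lemma sigmaMap_const_comm {A B : D} (f : A ⟶ B) :
    (𝟙 _ - cshift A) ≫ Limits.Sigma.map (fun _ : ℕ => f) =
      Limits.Sigma.map (fun _ : ℕ => f) ≫ (𝟙 _ - cshift B) := by
  apply Sigma.hom_ext
  intro n
  simp [cshift, Preadditive.comp_sub, Preadditive.sub_comp]

lemma stepA (hP2 : P2 G) {k : κ} (θ : G k ⟶ ∐ T.X)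
    (hθ : θ ≫ (𝟙 _ - DerLim.shiftMap T.X T.s) = 0) : θ = 0 := by
  obtain ⟨j, β, γ, hγ⟩ := hP2 T.X k θ
  choose β' hβ' using fun n => T.exists_lift_zero (β n)
  have h1 : Limits.Sigma.map β ≫ DerLim.shiftMap T.X T.s = Limits.Sigma.map β' ≫ T.τ := by
    apply Sigma.hom_ext
    intro n
    simp only [DerLim.shiftMap, GoodTower.τ, Sigma.ι_map_assoc, Sigma.ι_desc]
    rw [← Category.assoc, hβ', Category.assoc]
  have hθ' : θ = θ ≫ DerLim.shiftMap T.X T.s := by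
    rw [Preadditive.comp_sub, Category.comp_id, sub_eq_zero] at hθ
    exact hθ
  have h2 : θ = (γ ≫ Limits.Sigma.map β') ≫ T.τ := by
    rw [hθ', hγ, Category.assoc, h1, Category.assoc]
  have h3 : ((γ ≫ Limits.Sigma.map β') ≫ (𝟙 _ - cshift (T.X 0))) ≫
      Limits.Sigma.map (fun n : ℕ => T.tr (n + 1)) = 0 := by
    have : (((γ ≫ Limits.Sigma.map β') ≫ (𝟙 _ - cshift (T.X 0))) ≫
      Limits.Sigma.map (fun n : ℕ => T.tr (n + 1))) ≫ T.ν = 0 := by
      rw [Category.assoc, ← T.τ_eq', Category.assoc, ← T.τ_comm, ← Category.assoc, ← h2, hθ]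
    have h4 := congrArg (fun t => t ≫ T.νr) this
    simpa only [Category.assoc, T.ν_νr, Category.comp_id, zero_comp] using h4
  have h5 := gv hP2 (fun n : ℕ => T.tr (n + 1)) (fun _ : ℕ => T.s 0)
    (fun n k ξ hξ => T.comp_s0_eq_zero ξ n hξ) _ h3
  rw [Category.assoc, sigmaMap_const_comm, ← Category.assoc] at h5
  have h6 := congrArg (fun t => t ≫ cretr (T.X 1)) h5
  simp only [Category.assoc, one_sub_cshift_comp_cretr, Category.comp_id, zero_comp] at h6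
  rw [h2, T.τ_eq]
  simp only [Category.assoc] at h6 ⊢
  rw [reassoc_of% h6, zero_comp]

/-- Condition (Sh): the family is closed under desuspension up to isomorphism. -/
def ShClosed {κ : Type w} (G : κ → D) : Prop :=
  ∀ k, ∃ k', Nonempty ((G k')⟦(1 : ℤ)⟧ ≅ G k)

variable {T}

lemma key_comp_c (hP2 : P2 G) (hSh : ShClosed G) (h : Hocolim T) {k : κ} (α : G k ⟶ h.L) :
    α ≫ h.c = 0 := by
  obtain ⟨k', ⟨e⟩⟩ := hSh k
  obtain ⟨θ₂, hθ₂⟩ := (shiftFunctor D (1 : ℤ)).map_surjective (e.hom ≫ α ≫ h.c)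
  have h0 : h.c ≫ (𝟙 _ - DerLim.shiftMap T.X T.s)⟦(1 : ℤ)⟧' = 0 :=
    comp_distTriang_mor_zero₃₁ _ h.dist
  have h1 : θ₂ ≫ (𝟙 _ - DerLim.shiftMap T.X T.s) = 0 := by
    apply (shiftFunctor D (1 : ℤ)).map_injective
    rw [Functor.map_comp, hθ₂, Functor.map_zero, Category.assoc, Category.assoc, h0, comp_zero,
      comp_zero]
  have h2 := stepA T hP2 θ₂ h1
  rw [h2, Functor.map_zero] at hθ₂
  rw [← cancel_epi e.hom, ← hθ₂, comp_zero]

lemma key_injective (hP2 : P2 G) (hSh : ShClosed G) (h : Hocolim T) {k : κ} (α : G k ⟶ h.L)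
    (hα : res H α h.a = 0) : α = 0 := by
  obtain ⟨α', hα'⟩ : ∃ α' : G k ⟶ ∐ T.X, α = α' ≫ h.π :=
    Triangle.coyoneda_exact₃ _ h.dist α (key_comp_c hP2 hSh h α)
  obtain ⟨j, β, γ, hγ⟩ := hP2 T.X k α'
  choose β' hβ' using fun n => T.exists_lift_zero (β n)
  have h1 : ∀ n, β n ≫ h.i n = β' n ≫ h.i 0 := by
    intro n
    rw [← h.s_i n, ← Category.assoc, hβ', Category.assoc, h.tr_i]
  have h2 : Limits.Sigma.map β ≫ h.π = Sigma.desc β' ≫ h.i 0 := by
    apply Sigma.hom_ext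
    intro n
    simp only [Sigma.ι_map_assoc, Sigma.ι_desc_assoc]
    exact h1 n
  have h3 : α = (γ ≫ Sigma.desc β') ≫ h.i 0 := by
    rw [hα', hγ, Category.assoc, h2, Category.assoc]
  have h4 : (γ ≫ Sigma.desc β') ≫ T.s 0 = 0 := by
    apply T.kill
    rw [← h.res_i 0, ← res_comp, ← h3, hα]
  rw [h3, ← h.s_i 0, ← Category.assoc, h4, zero_comp]

lemma key_surjective (h : Hocolim T) (k : κ) (b : H.obj (op (G k))) :
    ∃ α : G k ⟶ h.L, res H α h.a = b := by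
  obtain ⟨ξ, hξ⟩ := T.surj k b
  exact ⟨ξ ≫ h.i 0, by rw [res_comp, h.res_i, hξ]⟩

lemma key_bijective (hP2 : P2 G) (hSh : ShClosed G) (h : Hocolim T) (k : κ) :
    Function.Bijective (fun α : G k ⟶ h.L => res H α h.a) := by
  refine ⟨fun α α' hαα' => ?_, fun b => key_surjective h k b⟩
  have : res H (α - α') h.a = 0 := by
    rw [res_sub]; exact sub_eq_zero.2 hαα'
  exact sub_eq_zero.1 (key_injective hP2 hSh h _ this)

end StepA

end Groth.Agent.Lib.Helper8.Brown
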