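import Groth.Agent.Lib.Helper8.Brown.Perfect

universe w v u

set_option linter.unusedSectionVars false

open CategoryTheory CategoryTheory.Limits CategoryTheory.Pretriangulated Opposite
open CategoryTheory.Pretriangulated.Opposite

namespace Groth.Agent.Lib.Helper8.Brown

section Repr

open ZeroObject

variable {D : Type u} [Category.{v} D] [Preadditive D] [HasZeroObject D] [HasShift D ℤ]
  [∀ n : ℤ, (shiftFunctor D n).Additive] [Pretriangulated D] [HasCoproducts.{v} D]
  [HasColimitsOfShape (Discrete ℕ) D]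

/-- Condition (1): the family detects nonzero objects. -/
def P1 {κ : Type w} (G : κ → D) : Prop :=
  ∀ X : D, ¬ IsZero X → ∃ (k : κ) (f : G k ⟶ X), f ≠ 0

lemma isIso_of_bijective {κ : Type w} {G : κ → D} (hP1 : P1 G) (hSh : ShClosed G) {L L' : D}
    (ψ : L ⟶ L') (hψ : ∀ k, Function.Bijective (fun α : G k ⟶ L => α ≫ ψ)) : IsIso ψ := by
  obtain ⟨Z, p, q, hT⟩ := distinguished_cocone_triangle ψ
  suffices hZ : IsZero Z from (Triangle.isZero₃_iff_isIso₁ _ hT).1 hZ
  by_contra hZ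
  obtain ⟨k, ζ, hζ⟩ := hP1 Z hZ
  apply hζ
  obtain ⟨k', ⟨e⟩⟩ := hSh k
  obtain ⟨μ, hμ⟩ := (shiftFunctor D (1 : ℤ)).map_surjective (e.hom ≫ ζ ≫ q)
  have h0 : q ≫ ψ⟦(1 : ℤ)⟧' = 0 := comp_distTriang_mor_zero₃₁ _ hT
  have h1 : μ ≫ ψ = 0 ≫ ψ := by
    apply (shiftFunctor D (1 : ℤ)).map_injective
    rw [Functor.map_comp, hμ, zero_comp, Functor.map_zero, Category.assoc, Category.assoc, h0,
      comp_zero, comp_zero]
  have h2 : μ = 0 := (hψ k').1 h1
  rw [h2, Functor.map_zero] at hμ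
  have h3 : ζ ≫ q = 0 := by rw [← cancel_epi e.hom, ← hμ, comp_zero]
  obtain ⟨ζ', hζ'⟩ : ∃ ζ' : G k ⟶ L', ζ = ζ' ≫ p := Triangle.coyoneda_exact₃ _ hT ζ h3
  obtain ⟨ζ'', hζ''⟩ := (hψ k).2 ζ'
  have h4 : ψ ≫ p = 0 := comp_distTriang_mor_zero₁₂ _ hT
  rw [hζ', ← hζ'']
  change (ζ'' ≫ ψ) ≫ p = 0
  rw [Category.assoc, h4, comp_zero]

variable {H : Dᵒᵖ ⥤ AddCommGrpCat.{v}} [H.IsHomological]
  [∀ (κ : Type v), PreservesLimitsOfShape (Discrete κ) H]
  {κ : Type v} {G : κ → D}

variable (H) in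
lemma preservesLimitsOfShape_nat : PreservesLimitsOfShape (Discrete ℕ) H :=
  preservesLimitsOfShape_of_equiv (Discrete.equivalence (Equiv.ulift.{v} : ULift.{v} ℕ ≃ ℕ)) H

lemma exists_repr_candidate (hP2 : P2 G) (hSh : ShClosed G) (W : D) (w : H.obj (op W)) :
    ∃ (L : D) (a : H.obj (op L)) (j : W ⟶ L), res H j a = w ∧
      ∀ k, Function.Bijective (fun α : G k ⟶ L => res H α a) := by
  have := preservesLimitsOfShape_nat H
  obtain ⟨aF, haF⟩ := exists_freeElt (H := H) G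
  obtain ⟨a0, ha0l, ha0r⟩ := exists_res_biprod H w aF
  let S₀ : Stage H := ⟨W ⊞ freeObj (H := H) G, a0⟩
  have hsurj : ∀ k (b : H.obj (op (G k))), ∃ ξ : G k ⟶ S₀.obj, res H ξ S₀.elt = b := by
    intro k b
    refine ⟨Sigma.ι (fun x : (Σ k : κ, H.obj (op (G k))) => G x.1) ⟨k, b⟩ ≫ biprod.inr, ?_⟩
    rw [res_comp]
    change res H _ (res H biprod.inr a0) = b
    rw [ha0r, haF]
  let T := goodTower G S₀ hsurj
  obtain ⟨h⟩ := exists_hocolim T
  let j : W ⊞ freeObj (H := H) G ⟶ h.L := h.i 0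
  have hj : res H j h.a = a0 := h.res_i 0
  refine ⟨h.L, h.a, (biprod.inl : W ⟶ W ⊞ freeObj (H := H) G) ≫ j, ?_,
    fun k => key_bijective hP2 hSh h k⟩
  rw [res_comp, hj]
  exact ha0l

theorem isRepresentable (hP1 : P1 G) (hP2 : P2 G) (hSh : ShClosed G) :
    (H ⋙ forget AddCommGrpCat.{v}).IsRepresentable := by
  obtain ⟨L, a, -, -, hbij⟩ := exists_repr_candidate hP2 hSh (0 : D) (0 : H.obj (op (0 : D)))
  -- comparison: a map pulling back the element induces bijections, hence is an isomorphism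
  have hcomp : ∀ (L' : D) (a' : H.obj (op L')) (ψ : L ⟶ L') (_ : res H ψ a' = a)
      (_ : ∀ k, Function.Bijective (fun α : G k ⟶ L' => res H α a')), IsIso ψ := by
    intro L' a' ψ hψ hbij'
    apply isIso_of_bijective hP1 hSh
    intro k
    have h1 : (fun α' : G k ⟶ L' => res H α' a') ∘ (fun α : G k ⟶ L => α ≫ ψ) =
        fun α : G k ⟶ L => res H α a := by
      funext α
      simp only [Function.comp_apply]
      rw [res_comp, hψ]
    exact (Function.Bijective.of_comp_iff' (hbij' k) _).1 (h1 ▸ hbij k)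
  have bij : ∀ Y : D, Function.Bijective (fun φ : Y ⟶ L => res H φ a) := by
    intro Y
    constructor
    · -- injectivity
      have hinj : ∀ φ : Y ⟶ L, res H φ a = 0 → φ = 0 := by
        intro φ hφ
        obtain ⟨Q, q, r, hT⟩ := distinguished_cocone_triangle φ
        obtain ⟨aQ, haQ⟩ := res_exact' H _ _ _ hT a hφ
        obtain ⟨L'', a'', j'', hj'', hbij''⟩ := exists_repr_candidate hP2 hSh Q aQ
        have hψ : res H (q ≫ j'') a'' = a := by rw [res_comp, hj'', haQ]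
        have := hcomp L'' a'' (q ≫ j'') hψ hbij''
        have h0 : φ ≫ q = 0 := comp_distTriang_mor_zero₁₂ _ hT
        rw [← cancel_mono (q ≫ j''), zero_comp, ← Category.assoc, h0, zero_comp]
      intro φ φ' hφφ'
      have : res H (φ - φ') a = 0 := by
        rw [res_sub]; exact sub_eq_zero.2 hφφ'
      exact sub_eq_zero.1 (hinj _ this)
    · -- surjectivity
      intro b
      obtain ⟨c, hc1, hc2⟩ := exists_res_biprod H a b
      obtain ⟨L', a', j', hj', hbij'⟩ := exists_repr_candidate hP2 hSh (L ⊞ Y) c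
      have hψ : res H (biprod.inl ≫ j') a' = a := by rw [res_comp, hj', hc1]
      have := hcomp L' a' (biprod.inl ≫ j') hψ hbij'
      refine ⟨(biprod.inr ≫ j') ≫ inv (biprod.inl ≫ j'), ?_⟩
      change res H _ a = b
      have h1 : res H (inv (biprod.inl ≫ j')) a = a' := by
        rw [← hψ, ← res_comp, IsIso.inv_hom_id, res_id]
      rw [res_comp, h1, res_comp, hj', hc2]
  exact ⟨L, ⟨{ homEquiv := Equiv.ofBijective _ (bij _)
               homEquiv_comp := fun f g => res_comp H f g a }⟩⟩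

end Repr

end Groth.Agent.Lib.Helper8.Brown
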