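import Groth.Prelude.Def_CohDer
import Mathlib.CategoryTheory.Triangulated.Yoneda
import Mathlib.CategoryTheory.Triangulated.Opposite.Pretriangulated
import Mathlib.CategoryTheory.Triangulated.HomologicalFunctor
import Mathlib.CategoryTheory.Limits.Shapes.Opposites.Products
import Mathlib.Algebra.Category.Grp.Limits
import Mathlib.CategoryTheory.Limits.Types.Limits

universe w v u

open CategoryTheory CategoryTheory.Limits CategoryTheory.Pretriangulated Opposite
open CategoryTheory.Pretriangulated.Opposite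

namespace Groth.Agent.Lib.Helper8.Brown

section Res

variable {D : Type u} [Category.{v} D] (H : Dᵒᵖ ⥤ AddCommGrpCat.{v})

/-- Restriction of an element of `H` along a morphism. -/
def res {Y' Y : D} (f : Y' ⟶ Y) : H.obj (op Y) →+ H.obj (op Y') := (H.map f.op).hom

lemma res_comp {Y'' Y' Y : D} (f : Y'' ⟶ Y') (g : Y' ⟶ Y) (b : H.obj (op Y)) :
    res H (f ≫ g) b = res H f (res H g b) := by
  simp [res]

@[simp]
lemma res_id {Y : D} (b : H.obj (op Y)) : res H (𝟙 Y) b = b := by
  simp [res]

variable [Preadditive D]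

lemma res_zero [H.PreservesZeroMorphisms] {Y' Y : D} (b : H.obj (op Y)) :
    res H (0 : Y' ⟶ Y) b = 0 := by
  simp [res]

lemma res_add [H.Additive] {Y' Y : D} (f g : Y' ⟶ Y) (b : H.obj (op Y)) :
    res H (f + g) b = res H f b + res H g b := by
  simp [res, Functor.map_add]

lemma res_sub [H.Additive] {Y' Y : D} (f g : Y' ⟶ Y) (b : H.obj (op Y)) :
    res H (f - g) b = res H f b - res H g b := by
  simp [res, Functor.map_sub]

lemma res_neg [H.Additive] {Y' Y : D} (f : Y' ⟶ Y) (b : H.obj (op Y)) :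
    res H (-f) b = - res H f b := by
  simp [res, Functor.map_neg]

end Res

section Prod

variable {D : Type u} [Category.{v} D] (H : Dᵒᵖ ⥤ AddCommGrpCat.{v})
  {α : Type w} [Small.{v} α] (Y : α → D) [HasCoproduct Y] [PreservesLimitsOfShape (Discrete α) H]

/-- The limit cone in types obtained from the coproduct `∐ Y`. -/
noncomputable def prodIsLimit :
    IsLimit ((H ⋙ forget AddCommGrpCat.{v}).mapCone (Cofan.op (Cofan.mk (∐ Y) (Sigma.ι Y)))) :=
  isLimitOfPreserves (H ⋙ forget AddCommGrpCat.{v}) (Cofan.IsColimit.op (coproductIsCoproduct Y))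

lemma exists_res_sigma (b : ∀ x, H.obj (op (Y x))) :
    ∃ b' : H.obj (op (∐ Y)), ∀ x, res H (Sigma.ι Y x) b' = b x := by
  let e := Types.isLimitEquivSections (prodIsLimit H Y)
  refine ⟨e.symm ⟨fun x => b x.as, ?_⟩, fun x => ?_⟩
  · rintro ⟨x⟩ ⟨x'⟩ ⟨⟨h⟩⟩
    cases h
    simp
  · exact Types.isLimitEquivSections_symm_apply (prodIsLimit H Y) _ ⟨x⟩

lemma res_sigma_ext (b b' : H.obj (op (∐ Y)))
    (h : ∀ x, res H (Sigma.ι Y x) b = res H (Sigma.ι Y x) b') : b = b' := by
  let e := Types.isLimitEquivSections (prodIsLimit H Y)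
  apply e.injective
  ext ⟨x⟩
  exact h x

end Prod

section Exact

variable {D : Type u} [Category.{v} D] [Preadditive D] [HasZeroObject D] [HasShift D ℤ]
  [∀ n : ℤ, (shiftFunctor D n).Additive] [Pretriangulated D]
  (H : Dᵒᵖ ⥤ AddCommGrpCat.{v}) [H.IsHomological]

lemma res_exact (T : Triangle D) (hT : T ∈ distTriang D) (b : H.obj (op T.obj₂))
    (hb : res H T.mor₁ b = 0) : ∃ c : H.obj (op T.obj₃), res H T.mor₂ c = b := by
  have h := H.map_distinguished_op_exact T hT
  rw [ShortComplex.ab_exact_iff] at h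
  exact h b hb

lemma res_exact' {A B C : D} (f : A ⟶ B) (g : B ⟶ C) (h : C ⟶ A⟦(1 : ℤ)⟧)
    (hT : Triangle.mk f g h ∈ distTriang D) (b : H.obj (op B))
    (hb : res H f b = 0) : ∃ c : H.obj (op C), res H g c = b :=
  res_exact H _ hT b hb

lemma exists_res_biprod {A B : D} (a : H.obj (op A)) (b : H.obj (op B)) :
    ∃ c : H.obj (op (A ⊞ B)), res H biprod.inl c = a ∧ res H biprod.inr c = b := by
  refine ⟨res H biprod.fst a + res H biprod.snd b, ?_, ?_⟩
  · rw [map_add, ← res_comp, ← res_comp, biprod.inl_fst, biprod.inl_snd, res_id, res_zero,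
      add_zero]
  · rw [map_add, ← res_comp, ← res_comp, biprod.inr_fst, biprod.inr_snd, res_id, res_zero,
      zero_add]

end Exact

end Groth.Agent.Lib.Helper8.Brown
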