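import Groth.Agent.Lib.Helper8.Brown.Repr
import Mathlib.CategoryTheory.Limits.Preserves.Shapes.Products
import Mathlib.CategoryTheory.Adjunction.Limits

universe w v u

set_option linter.unusedSectionVars false

open CategoryTheory CategoryTheory.Limits CategoryTheory.Pretriangulated Opposite
open CategoryTheory.Pretriangulated.Opposite

namespace Groth.Agent.Lib.Helper8.Brown

section ShiftCl

variable {D : Type u} [Category.{v} D] [Preadditive D] [HasZeroObject D] [HasShift D ℤ]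
  [∀ n : ℤ, (shiftFunctor D n).Additive] [Pretriangulated D]
  [HasColimitsOfShape (Discrete ℕ) D]
  {ι : Type w} (E : ι → D)

/-- The family of all shifts of the `E i`. -/
def shiftFamily : ι × ℤ → D := fun p => (shiftFunctor D p.2).obj (E p.1)

lemma shClosed_shiftFamily : ShClosed (shiftFamily E) := by
  rintro ⟨i, m⟩
  exact ⟨(i, m - 1), ⟨((shiftFunctorAdd' D (m - 1) 1 m (by omega)).symm.app (E i))⟩⟩

lemma P1_shiftFamily (h1 : ∀ X : D, ¬ IsZero X → ∃ (i : ι) (f : E i ⟶ X), f ≠ 0) :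
    P1 (shiftFamily E) := by
  intro X hX
  obtain ⟨i, f, hf⟩ := h1 X hX
  refine ⟨(i, 0), (shiftFunctorZero D ℤ).hom.app (E i) ≫ f, fun h => hf ?_⟩
  rw [← cancel_epi ((shiftFunctorZero D ℤ).hom.app (E i)), comp_zero]
  exact h

lemma P2_shift
    (h2 : ∀ (X : ℕ → D) (i : ι) (α : E i ⟶ ∐ X), ∃ (j : ℕ → ι) (β : ∀ n, E (j n) ⟶ X n)
      (γ : E i ⟶ ∐ (fun n => E (j n))), α = γ ≫ Limits.Sigma.map β)
    (m : ℤ) (X : ℕ → D) (i : ι) (α : (E i)⟦m⟧ ⟶ ∐ X) :
    ∃ (j : ℕ → ι) (β : ∀ n, (E (j n))⟦m⟧ ⟶ X n) (γ : (E i)⟦m⟧ ⟶ ∐ (fun n => (E (j n))⟦m⟧)),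
      α = γ ≫ Limits.Sigma.map β := by
  let F := shiftFunctor D m
  let X' : ℕ → D := fun n => (X n)⟦-m⟧
  let ε : ∀ n, (X' n)⟦m⟧ ≅ X n := fun n => (shiftFunctorCompIsoId D (-m) m (by simp)).app (X n)
  have : IsIso (sigmaComparison F X') := inferInstance
  obtain ⟨α₀, hα₀⟩ := F.map_surjective
    (α ≫ Limits.Sigma.map (fun n => (ε n).inv) ≫ sigmaComparison F X')
  obtain ⟨j, β₀, γ₀, h0⟩ := h2 X' i α₀
  have : IsIso (sigmaComparison F (fun n => E (j n))) := inferInstance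
  refine ⟨j, fun n => F.map (β₀ n) ≫ (ε n).hom,
    F.map γ₀ ≫ inv (sigmaComparison F (fun n => E (j n))), ?_⟩
  have key : sigmaComparison F (fun n => E (j n)) ≫ F.map (Limits.Sigma.map β₀) =
      Limits.Sigma.map (fun n => F.map (β₀ n)) ≫ sigmaComparison F X' := by
    apply Sigma.hom_ext
    intro n
    rw [ι_comp_sigmaComparison_assoc, ← F.map_comp, Sigma.ι_map, Sigma.ι_map_assoc,
      ι_comp_sigmaComparison, F.map_comp]
  have hmono : Mono (Limits.Sigma.map (fun n => (ε n).inv) ≫ sigmaComparison F X') := by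
    have : IsIso (Limits.Sigma.map (fun n => (ε n).inv)) :=
      ⟨Limits.Sigma.map (fun n => (ε n).hom), by
        rw [Sigma.map_comp_map]; simp, by rw [Sigma.map_comp_map]; simp⟩
    infer_instance
  rw [← cancel_mono (Limits.Sigma.map (fun n => (ε n).inv) ≫ sigmaComparison F X'), ← hα₀, h0,
    F.map_comp]
  simp only [Category.assoc]
  congr 1
  rw [← Category.assoc (Limits.Sigma.map _), Sigma.map_comp_map]
  simp only [Category.assoc, Iso.hom_inv_id, Category.comp_id]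
  rw [← key, IsIso.inv_hom_id_assoc]

lemma P2_shiftFamily
    (h2 : ∀ (X : ℕ → D) (i : ι) (α : E i ⟶ ∐ X), ∃ (j : ℕ → ι) (β : ∀ n, E (j n) ⟶ X n)
      (γ : E i ⟶ ∐ (fun n => E (j n))), α = γ ≫ Limits.Sigma.map β) :
    P2 (shiftFamily E) := by
  rintro X ⟨i, m⟩ α
  obtain ⟨j, β, γ, h⟩ := P2_shift E h2 m X i α
  exact ⟨fun n => (j n, m), β, γ, h⟩

end ShiftCl

end Groth.Agent.Lib.Helper8.Brown
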