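import Groth.Agent.Lib.Helper8.Brown.Res
import Groth.Prelude.Def_DerLim

universe w v u

set_option linter.unusedSectionVars false

open CategoryTheory CategoryTheory.Limits CategoryTheory.Pretriangulated Opposite
open CategoryTheory.Pretriangulated.Opposite

namespace Groth.Agent.Lib.Helper8.Brown

section Tower

variable {D : Type u} [Category.{v} D] [Preadditive D] [HasZeroObject D] [HasShift D ℤ]
  [∀ n : ℤ, (shiftFunctor D n).Additive] [Pretriangulated D] [HasCoproducts.{v} D]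
  (H : Dᵒᵖ ⥤ AddCommGrpCat.{v}) [H.IsHomological]
  [∀ (κ : Type v), PreservesLimitsOfShape (Discrete κ) H]
  {κ : Type v} (G : κ → D)

/-- An object together with an element of `H` on it. -/
structure Stage where
  obj : D
  elt : H.obj (op obj)

variable {H}

/-- Index type of the maps from the `G k` to a stage killed by the element. -/
abbrev KerIdx (S : Stage H) : Type v := Σ k : κ, {ξ : G k ⟶ S.obj // res H ξ S.elt = 0}

noncomputable abbrev kerObj (S : Stage H) : D := ∐ (fun x : KerIdx G S => G x.1)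

noncomputable def kerMap (S : Stage H) : kerObj G S ⟶ S.obj :=
  Sigma.desc (fun x : KerIdx G S => x.2.1)

lemma res_kerMap (S : Stage H) : res H (kerMap G S) S.elt = 0 := by
  apply res_sigma_ext H (fun x : KerIdx G S => G x.1)
  intro x
  rw [← res_comp, map_zero]
  have : Sigma.ι (fun x : KerIdx G S => G x.1) x ≫ kerMap G S = x.2.1 := by
    simp [kerMap]
  rw [this]
  exact x.2.2

lemma exists_next (S : Stage H) :
    ∃ (Z : D) (f : S.obj ⟶ Z) (z : Z ⟶ (kerObj G S)⟦(1 : ℤ)⟧) (a' : H.obj (op Z)),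
      Triangle.mk (kerMap G S) f z ∈ distTriang D ∧ res H f a' = S.elt := by
  obtain ⟨Z, f, z, hT⟩ := distinguished_cocone_triangle (kerMap G S)
  obtain ⟨a', ha'⟩ := res_exact' H _ _ _ hT S.elt (res_kerMap G S)
  exact ⟨Z, f, z, a', hT, ha'⟩

noncomputable def Stage.next (S : Stage H) : Stage H :=
  ⟨(exists_next G S).choose, (exists_next G S).choose_spec.choose_spec.choose_spec.choose⟩

noncomputable def Stage.nextMap (S : Stage H) : S.obj ⟶ (S.next G).obj :=
  (exists_next G S).choose_spec.choose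

noncomputable def Stage.nextZ (S : Stage H) : (S.next G).obj ⟶ (kerObj G S)⟦(1 : ℤ)⟧ :=
  (exists_next G S).choose_spec.choose_spec.choose

lemma Stage.next_dist (S : Stage H) :
    Triangle.mk (kerMap G S) (S.nextMap G) (S.nextZ G) ∈ distTriang D :=
  (exists_next G S).choose_spec.choose_spec.choose_spec.choose_spec.1

lemma Stage.res_nextMap (S : Stage H) : res H (S.nextMap G) (S.next G).elt = S.elt :=
  (exists_next G S).choose_spec.choose_spec.choose_spec.choose_spec.2

lemma Stage.comp_nextMap_eq_zero (S : Stage H) (k : κ) (ξ : G k ⟶ S.obj)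
    (h : res H ξ S.elt = 0) : ξ ≫ S.nextMap G = 0 := by
  have h1 : ξ = Sigma.ι (fun x : KerIdx G S => G x.1) ⟨k, ξ, h⟩ ≫ kerMap G S := by
    simp [kerMap]
  have h2 : kerMap G S ≫ S.nextMap G = 0 := comp_distTriang_mor_zero₁₂ _ (S.next_dist G)
  rw [h1, Category.assoc, h2, comp_zero]

/-- The tower of stages. -/
noncomputable def towerStage (S₀ : Stage H) : ℕ → Stage H
  | 0 => S₀
  | n + 1 => (towerStage S₀ n).next G

variable (H) in
/-- A tower with elements such that maps from the `G k` killed by the element die at the next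
stage, and such that every element of `H (G k)` comes from stage `0`. -/
structure GoodTower where
  X : ℕ → D
  s : ∀ n, X n ⟶ X (n + 1)
  a : ∀ n, H.obj (op (X n))
  res_s : ∀ n, res H (s n) (a (n + 1)) = a n
  kill : ∀ n k (ξ : G k ⟶ X n), res H ξ (a n) = 0 → ξ ≫ s n = 0
  surj : ∀ k (b : H.obj (op (G k))), ∃ ξ : G k ⟶ X 0, res H ξ (a 0) = b
  tri : ∀ n, ∃ (α : Type v) (g : α → κ) (y : (∐ fun x => G (g x)) ⟶ X n)
    (z : X (n + 1) ⟶ (∐ fun x => G (g x))⟦(1 : ℤ)⟧), Triangle.mk y (s n) z ∈ distTriang D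

/-- The good tower starting from a stage from which all elements on the `G k` come. -/
noncomputable def goodTower (S₀ : Stage H)
    (hS₀ : ∀ k (b : H.obj (op (G k))), ∃ ξ : G k ⟶ S₀.obj, res H ξ S₀.elt = b) :
    GoodTower H G where
  X n := (towerStage G S₀ n).obj
  s n := (towerStage G S₀ n).nextMap G
  a n := (towerStage G S₀ n).elt
  res_s n := (towerStage G S₀ n).res_nextMap G
  kill n k ξ h := (towerStage G S₀ n).comp_nextMap_eq_zero G k ξ h
  surj := hS₀
  tri n := ⟨KerIdx G (towerStage G S₀ n), fun x => x.1, kerMap G (towerStage G S₀ n),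
    (towerStage G S₀ n).nextZ G, (towerStage G S₀ n).next_dist G⟩

/-- The free stage: coproduct over all elements on all `G k`. -/
noncomputable abbrev freeObj : D := ∐ (fun x : (Σ k : κ, H.obj (op (G k))) => G x.1)

lemma exists_freeElt :
    ∃ a : H.obj (op (freeObj (H := H) G)),
      ∀ x : (Σ k : κ, H.obj (op (G k))), res H (Sigma.ι (fun x : (Σ k : κ, H.obj (op (G k))) => G x.1) x) a = x.2 :=
  exists_res_sigma H (fun x : (Σ k : κ, H.obj (op (G k))) => G x.1) (fun x => x.2)

end Tower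

section Hocolim

variable {D : Type u} [Category.{v} D] [Preadditive D] [HasZeroObject D] [HasShift D ℤ]
  [∀ n : ℤ, (shiftFunctor D n).Additive] [Pretriangulated D] [HasCoproducts.{v} D]
  [HasColimitsOfShape (Discrete ℕ) D]
  {H : Dᵒᵖ ⥤ AddCommGrpCat.{v}} [H.IsHomological]
  [PreservesLimitsOfShape (Discrete ℕ) H]
  {κ : Type v} {G : κ → D} (T : GoodTower H G)

/-- Transition maps from stage `0`. -/
noncomputable def GoodTower.tr (T : GoodTower H G) : ∀ n, T.X 0 ⟶ T.X n
  | 0 => 𝟙 _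
  | n + 1 => GoodTower.tr T n ≫ T.s n

@[simp] lemma GoodTower.tr_zero : T.tr 0 = 𝟙 _ := rfl

lemma GoodTower.tr_succ (n : ℕ) : T.tr (n + 1) = T.tr n ≫ T.s n := rfl

lemma GoodTower.res_tr (n : ℕ) : res H (T.tr n) (T.a n) = T.a 0 := by
  induction n with
  | zero => simp
  | succ n ih => rw [GoodTower.tr_succ, res_comp, T.res_s, ih]

/-- Transition maps from stage `1`. -/
noncomputable def GoodTower.tr1 (T : GoodTower H G) : ∀ n, T.X 1 ⟶ T.X (n + 1)
  | 0 => 𝟙 _
  | n + 1 => GoodTower.tr1 T n ≫ T.s (n + 1)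

@[simp] lemma GoodTower.tr1_zero : T.tr1 0 = 𝟙 _ := rfl

lemma GoodTower.tr1_succ (n : ℕ) : T.tr1 (n + 1) = T.tr1 n ≫ T.s (n + 1) := rfl

lemma GoodTower.s0_tr1 (n : ℕ) : T.s 0 ≫ T.tr1 n = T.tr (n + 1) := by
  induction n with
  | zero => simp [GoodTower.tr_succ]
  | succ n ih => rw [GoodTower.tr1_succ, ← Category.assoc, ih, ← GoodTower.tr_succ]

/-- A map from some `G k` to stage `0` which dies at a later stage dies at stage `1`. -/
lemma GoodTower.comp_s0_eq_zero {k : κ} (ξ : G k ⟶ T.X 0) (n : ℕ) (h : ξ ≫ T.tr (n + 1) = 0) :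
    ξ ≫ T.s 0 = 0 := by
  apply T.kill
  rw [← T.res_tr (n + 1), ← res_comp, h, res_zero]

/-- Every map from some `G k` to stage `n` agrees at stage `n + 1` with a map from stage `0`. -/
lemma GoodTower.exists_lift_zero {k : κ} {n : ℕ} (ξ : G k ⟶ T.X n) :
    ∃ ξ₀ : G k ⟶ T.X 0, ξ ≫ T.s n = ξ₀ ≫ T.tr (n + 1) := by
  obtain ⟨ξ₀, hξ₀⟩ := T.surj k (res H ξ (T.a n))
  refine ⟨ξ₀, ?_⟩
  have : (ξ - ξ₀ ≫ T.tr n) ≫ T.s n = 0 := by
    apply T.kill
    rw [res_sub, res_comp, T.res_tr, hξ₀, sub_self]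
  rw [Preadditive.sub_comp, sub_eq_zero] at this
  rw [this, Category.assoc, ← GoodTower.tr_succ]

/-- A homotopy colimit of the tower, with an element of `H` on it restricting to the given ones. -/
structure Hocolim where
  L : D
  π : ∐ T.X ⟶ L
  c : L ⟶ (∐ T.X)⟦(1 : ℤ)⟧
  dist : Triangle.mk (𝟙 _ - DerLim.shiftMap T.X T.s) π c ∈ distTriang D
  a : H.obj (op L)
  res_a : ∀ n, res H (Sigma.ι T.X n ≫ π) a = T.a n

variable {T}

/-- The structure maps to the homotopy colimit. -/
noncomputable def Hocolim.i (h : Hocolim T) (n : ℕ) : T.X n ⟶ h.L := Sigma.ι T.X n ≫ h.π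

lemma Hocolim.res_i (h : Hocolim T) (n : ℕ) : res H (h.i n) h.a = T.a n := h.res_a n

lemma Hocolim.s_i (h : Hocolim T) (n : ℕ) : T.s n ≫ h.i (n + 1) = h.i n := by
  have h0 : (𝟙 _ - DerLim.shiftMap T.X T.s) ≫ h.π = 0 := comp_distTriang_mor_zero₁₂ _ h.dist
  have h1 := congrArg (fun t => Sigma.ι T.X n ≫ t) h0
  simp only [Preadditive.sub_comp, Preadditive.comp_sub, Category.id_comp, comp_zero,
    DerLim.shiftMap, Sigma.ι_desc_assoc, Category.assoc] at h1
  rw [sub_eq_zero] at h1
  exact h1.symm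

lemma Hocolim.tr_i (h : Hocolim T) (n : ℕ) : T.tr n ≫ h.i n = h.i 0 := by
  induction n with
  | zero => simp
  | succ n ih => rw [GoodTower.tr_succ, Category.assoc, h.s_i, ih]

variable (T) in
lemma exists_hocolim : Nonempty (Hocolim T) := by
  obtain ⟨L, π, c, hT⟩ := distinguished_cocone_triangle (𝟙 _ - DerLim.shiftMap T.X T.s)
  obtain ⟨b, hb⟩ := exists_res_sigma H T.X T.a
  have hb0 : res H (𝟙 _ - DerLim.shiftMap T.X T.s) b = 0 := by
    apply res_sigma_ext H T.X
    intro n
    rw [← res_comp, map_zero, Preadditive.comp_sub, Category.comp_id, res_sub, hb]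
    simp only [DerLim.shiftMap, Sigma.ι_desc]
    rw [res_comp, hb, T.res_s, sub_self]
  obtain ⟨a, ha⟩ := res_exact' H _ _ _ hT b hb0
  exact ⟨⟨L, π, c, hT, a, fun n => by rw [res_comp, ha, hb]⟩⟩

end Hocolim

end Groth.Agent.Lib.Helper8.Brown
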